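import Groth.Agent.Fixpt.H657.Act

/-!
# Lefschetz numbers of the action of an exact endofunctor

`lef Λ Φ u w = ∑ (-1)^n Tr(x ↦ u · Φ(x) · w | Ext^n(A, L))` for an exact `Λ`-linear functor `Φ : C ⥤ C`,
`u : A ⟶ Φ.obj A`, `w : Φ.obj L ⟶ L`.

* `FinE Λ A L`: `Ext^n(A, L)` is finite-dimensional, and zero for `n` large; stability in short exact
  sequences, under isomorphisms and retracts;
* `lef_add`, `lef_smul`, `lef_sum`, `lef_zero`: linearity in `w`;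
* `lef_nat`: naturality in `Φ`;
* `lef_comm`: cyclicity, for functors `Φ : C ⥤ D`, `Ψ : D ⥤ C`; `lef_rotate`, `lef_cyc`: special cases;
* `lef_ses`: additivity in short exact sequences of pairs `(L, w)`.
-/

set_option autoImplicit false

universe w₁ w₂ v₁ v₂ u₁ u₂ t

open CategoryTheory CategoryTheory.Limits CategoryTheory.Abelian

namespace Groth.Agent.Fixpt.H657.Lef

open Groth.Agent.Fixpt.H657.TrLes Groth.Agent.Fixpt.H657.Act

variable {C : Type u₁} [Category.{v₁} C] [Abelian C] [HasExt.{w₁} C]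
variable {D : Type u₂} [Category.{v₂} D] [Abelian D] [HasExt.{w₂} D]

section FinE

variable (Λ : Type t) [Field Λ] [Linear Λ C]

/-- `Ext^n(A, L)` is finite-dimensional for all `n`, and zero for `n` large. -/
def FinE (A L : C) : Prop := FinV Λ (fun n => Ext.{w₁} A L n)

variable {Λ}

/-- Composition with a morphism is linear. -/
theorem isLin_postcomp {A L N : C} (f : L ⟶ N) (n : ℕ) :
    IsLin Λ ((Ext.mk₀ f).postcomp A (add_zero n)) := fun c x => by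
  change (c • x).comp (Ext.mk₀ f) (add_zero n) = c • x.comp (Ext.mk₀ f) (add_zero n)
  rw [Ext.smul_comp]

theorem isLin_postcomp_ext {A L N : C} {m : ℕ} (e : Ext.{w₁} L N m) (n : ℕ) {k : ℕ} (h : n + m = k) :
    IsLin Λ (e.postcomp A h) := fun c x => by
  change (c • x).comp e h = c • x.comp e h
  rw [Ext.smul_comp]

theorem FinE.of_iso {A L N : C} (e : L ≅ N) (h : FinE.{w₁} Λ A L) : FinE.{w₁} Λ A N := by
  obtain ⟨h1, m, h2⟩ := h
  have hinv : ∀ n (y : Ext.{w₁} A N n), (y.comp (Ext.mk₀ e.inv) (add_zero n)).comp (Ext.mk₀ e.hom)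
      (add_zero n) = y := fun n y => by
    rw [Ext.comp_assoc_of_third_deg_zero, Ext.mk₀_comp_mk₀, e.inv_hom_id, Ext.comp_mk₀_id]
  refine ⟨fun n => ?_, m, fun n hn => ?_⟩
  · have := h1 n
    exact Module.Finite.of_surjective (isLin_postcomp (Λ := Λ) (A := A) e.hom n).lin
      fun y => ⟨y.comp (Ext.mk₀ e.inv) (add_zero n), hinv n y⟩
  · have := h2 n hn
    refine ⟨fun x y => ?_⟩
    rw [← hinv n x, ← hinv n y]
    rw [Subsingleton.elim (x.comp (Ext.mk₀ e.inv) (add_zero n)) (y.comp (Ext.mk₀ e.inv) (add_zero n))]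

/-- Retracts. -/
theorem FinE.of_retract {A L N : C} (i : N ⟶ L) (r : L ⟶ N) (hir : i ≫ r = 𝟙 N) (h : FinE.{w₁} Λ A L) :
    FinE.{w₁} Λ A N := by
  obtain ⟨h1, m, h2⟩ := h
  have hinv : ∀ n (y : Ext.{w₁} A N n), (y.comp (Ext.mk₀ i) (add_zero n)).comp (Ext.mk₀ r)
      (add_zero n) = y := fun n y => by
    rw [Ext.comp_assoc_of_third_deg_zero, Ext.mk₀_comp_mk₀, hir, Ext.comp_mk₀_id]
  refine ⟨fun n => ?_, m, fun n hn => ?_⟩
  · have := h1 n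
    exact Module.Finite.of_surjective (isLin_postcomp (Λ := Λ) (A := A) r n).lin
      fun y => ⟨y.comp (Ext.mk₀ i) (add_zero n), hinv n y⟩
  · have := h2 n hn
    refine ⟨fun x y => ?_⟩
    rw [← hinv n x, ← hinv n y]
    rw [Subsingleton.elim (x.comp (Ext.mk₀ i) (add_zero n)) (y.comp (Ext.mk₀ i) (add_zero n))]

theorem FinE.zero {A L : C} (h : IsZero L) : FinE.{w₁} Λ A L := by
  have hs : ∀ n, Subsingleton (Ext.{w₁} A L n) := fun n => by
    refine ⟨fun x y => ?_⟩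
    have h0 : ∀ z : Ext.{w₁} A L n, z = 0 := fun z => by
      rw [← Ext.comp_mk₀_id z, h.eq_of_src (𝟙 L) 0, Ext.mk₀_zero, Ext.comp_zero]
    rw [h0 x, h0 y]
  refine ⟨fun n => ?_, 0, fun n _ => hs n⟩
  have := hs n
  infer_instance

/-- Exactness of the sequence of Ext groups at the middle term. -/
theorem exact₂ (A : C) {S : ShortComplex C} (hS : S.ShortExact) (n : ℕ) :
    Function.Exact ((Ext.mk₀ S.f).postcomp A (add_zero n) : Ext.{w₁} A S.X₁ n →+ Ext.{w₁} A S.X₂ n)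
      ((Ext.mk₀ S.g).postcomp A (add_zero n) : Ext.{w₁} A S.X₂ n →+ Ext.{w₁} A S.X₃ n) := by
  intro y
  constructor
  · intro hy
    obtain ⟨x, hx⟩ := Ext.covariant_sequence_exact₂ A hS y hy
    exact ⟨x, hx⟩
  · rintro ⟨x, rfl⟩
    change (x.comp (Ext.mk₀ S.f) (add_zero n)).comp (Ext.mk₀ S.g) (add_zero n) = 0
    rw [Ext.comp_assoc_of_third_deg_zero, Ext.mk₀_comp_mk₀, S.zero, Ext.mk₀_zero, Ext.comp_zero]

theorem exact₃ (A : C) {S : ShortComplex C} (hS : S.ShortExact) (n : ℕ) :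
    Function.Exact ((Ext.mk₀ S.g).postcomp A (add_zero n) : Ext.{w₁} A S.X₂ n →+ Ext.{w₁} A S.X₃ n)
      (hS.extClass.postcomp A (rfl : n + 1 = n + 1) : Ext.{w₁} A S.X₃ n →+ Ext.{w₁} A S.X₁ (n + 1)) := by
  intro y
  constructor
  · intro hy
    obtain ⟨x, hx⟩ := Ext.covariant_sequence_exact₃ A hS y rfl hy
    exact ⟨x, hx⟩
  · rintro ⟨x, rfl⟩
    change (x.comp (Ext.mk₀ S.g) (add_zero n)).comp hS.extClass rfl = 0
    rw [Ext.comp_assoc_of_second_deg_zero, hS.comp_extClass, Ext.comp_zero]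

theorem exact₁ (A : C) {S : ShortComplex C} (hS : S.ShortExact) (n : ℕ) :
    Function.Exact
      (hS.extClass.postcomp A (rfl : n + 1 = n + 1) : Ext.{w₁} A S.X₃ n →+ Ext.{w₁} A S.X₁ (n + 1))
      ((Ext.mk₀ S.f).postcomp A (add_zero (n + 1)) :
        Ext.{w₁} A S.X₁ (n + 1) →+ Ext.{w₁} A S.X₂ (n + 1)) := by
  intro y
  constructor
  · intro hy
    obtain ⟨x, hx⟩ := Ext.covariant_sequence_exact₁ A hS y hy rfl
    exact ⟨x, hx⟩
  · rintro ⟨x, rfl⟩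
    change (x.comp hS.extClass rfl).comp (Ext.mk₀ S.f) (add_zero (n + 1)) = 0
    rw [Ext.comp_assoc_of_third_deg_zero, hS.extClass_comp, Ext.comp_zero]

theorem injective_zero (A : C) {S : ShortComplex C} (hS : S.ShortExact) :
    Function.Injective
      ((Ext.mk₀ S.f).postcomp A (add_zero 0) : Ext.{w₁} A S.X₁ 0 →+ Ext.{w₁} A S.X₂ 0) := by
  rw [injective_iff_map_eq_zero]
  intro x hx
  obtain ⟨f, rfl⟩ := (Ext.mk₀_bijective A S.X₁).2 x
  have h : Ext.mk₀ (f ≫ S.f) = 0 := by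
    rw [← Ext.mk₀_comp_mk₀]
    exact hx
  have h' : f ≫ S.f = 0 := (Ext.mk₀_bijective A S.X₂).1 (h.trans (Ext.mk₀_zero _ _).symm)
  have := hS.mono_f
  rw [(cancel_mono S.f).1 (h'.trans zero_comp.symm), Ext.mk₀_zero]

section finite

variable {V W Z : Type*} [AddCommGroup V] [AddCommGroup W] [AddCommGroup Z] [Module Λ V] [Module Λ W]
  [Module Λ Z]

theorem finite_of_exact {f : V →+ W} {g : W →+ Z} (hf : IsLin Λ f) (hg : IsLin Λ g)
    (h : Function.Exact f g) (hV : Module.Finite Λ V) (hZ : Module.Finite Λ Z) : Module.Finite Λ W := by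
  have e : LinearMap.ker hg.lin = LinearMap.range hf.lin := by
    ext y
    exact h y
  have h1 : Module.Finite Λ (LinearMap.ker hg.lin) := by
    rw [e]
    infer_instance
  have h2 : Module.Finite Λ (LinearMap.range hg.lin) := inferInstance
  have h3 : Module.Finite Λ (W ⧸ LinearMap.ker hg.lin) :=
    Module.Finite.equiv hg.lin.quotKerEquivRange.symm
  exact Module.Finite.of_submodule_quotient (LinearMap.ker hg.lin)

theorem subsingleton_of_exact {f : V →+ W} {g : W →+ Z} (h : Function.Exact f g) (hV : Subsingleton V)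
    (hZ : Subsingleton Z) : Subsingleton W := by
  have h0 : ∀ y : W, y = 0 := fun y => by
    obtain ⟨x, rfl⟩ := (h y).1 (Subsingleton.elim _ _)
    rw [Subsingleton.elim x 0, map_zero]
  exact ⟨fun x y => (h0 x).trans (h0 y).symm⟩

end finite

variable {A : C} {S : ShortComplex C}

theorem FinE.middle (hS : S.ShortExact) (h₁ : FinE.{w₁} Λ A S.X₁) (h₃ : FinE.{w₁} Λ A S.X₃) :
    FinE.{w₁} Λ A S.X₂ := by
  obtain ⟨f₁, n₁, g₁⟩ := h₁
  obtain ⟨f₃, n₃, g₃⟩ := h₃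
  refine ⟨fun n => finite_of_exact (isLin_postcomp S.f n) (isLin_postcomp S.g n) (exact₂ A hS n)
    (f₁ n) (f₃ n), max n₁ n₃, fun n hn => subsingleton_of_exact (exact₂ A hS n)
      (g₁ n (le_trans (le_max_left _ _) hn)) (g₃ n (le_trans (le_max_right _ _) hn))⟩

theorem FinE.third (hS : S.ShortExact) (h₁ : FinE.{w₁} Λ A S.X₁) (h₂ : FinE.{w₁} Λ A S.X₂) :
    FinE.{w₁} Λ A S.X₃ := by
  obtain ⟨f₁, n₁, g₁⟩ := h₁
  obtain ⟨f₂, n₂, g₂⟩ := h₂
  refine ⟨fun n => finite_of_exact (isLin_postcomp S.g n) (isLin_postcomp_ext hS.extClass n rfl)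
    (exact₃ A hS n) (f₂ n) (f₁ (n + 1)), max n₁ n₂, fun n hn => subsingleton_of_exact (exact₃ A hS n)
      (g₂ n (le_trans (le_max_right _ _) hn))
      (g₁ (n + 1) (le_trans (le_max_left n₁ n₂) (hn.trans n.le_succ)))⟩

theorem FinE.first (hS : S.ShortExact) (h₂ : FinE.{w₁} Λ A S.X₂) (h₃ : FinE.{w₁} Λ A S.X₃) :
    FinE.{w₁} Λ A S.X₁ := by
  obtain ⟨f₂, n₂, g₂⟩ := h₂
  obtain ⟨f₃, n₃, g₃⟩ := h₃
  refine ⟨fun n => ?_, max n₂ n₃ + 1, fun n hn => ?_⟩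
  · cases n with
    | zero =>
      have := f₂ 0
      exact Module.Finite.of_injective (isLin_postcomp (Λ := Λ) (A := A) S.f 0).lin (injective_zero A hS)
    | succ n =>
      exact finite_of_exact (isLin_postcomp_ext hS.extClass n rfl) (isLin_postcomp S.f (n + 1))
        (exact₁ A hS n) (f₃ n) (f₂ (n + 1))
  · obtain ⟨n, rfl⟩ : ∃ m, n = m + 1 := ⟨n - 1, by omega⟩
    have hn' : max n₂ n₃ ≤ n := Nat.le_of_succ_le_succ hn
    exact subsingleton_of_exact (exact₁ A hS n) (g₃ n (le_trans (le_max_right _ _) hn'))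
      (g₂ (n + 1) (le_trans (le_max_left _ _) (hn'.trans n.le_succ)))

end FinE

section Lef

variable (Λ : Type t) [Field Λ] [Linear Λ C]

variable (Φ : C ⥤ C) [Φ.Additive] [PreservesFiniteLimits Φ] [PreservesFiniteColimits Φ]

/-- The Lefschetz number `∑ (-1)^n Tr(x ↦ u · Φ(x) · w | Ext^n(A, L))`. -/
noncomputable def lef {A L : C} (u : A ⟶ Φ.obj A) (w : Φ.obj L ⟶ L) : Λ :=
  lefV Λ (V := fun n => Ext.{w₁} A L n) (fun n => act Φ u w n)

variable {Λ}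

theorem lef_zero {A L : C} (u : A ⟶ Φ.obj A) : lef.{w₁} Λ Φ u (0 : Φ.obj L ⟶ L) = 0 := by
  rw [lef]
  have : (fun n => act Φ u (0 : Φ.obj L ⟶ L) n) = fun n => (0 : Ext.{w₁} A L n →+ Ext.{w₁} A L n) :=
    funext fun n => act_zero Φ u n
  rw [this]
  exact lefV_zero

variable [Φ.Linear Λ]

theorem lef_add {A L : C} (hL : FinE.{w₁} Λ A L) (u : A ⟶ Φ.obj A) (w w' : Φ.obj L ⟶ L) :
    lef.{w₁} Λ Φ u (w + w') = lef.{w₁} Λ Φ u w + lef.{w₁} Λ Φ u w' := by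
  rw [lef, lef, lef]
  have : (fun n => act Φ u (w + w') n) = fun n => act Φ u w n + act Φ u w' n :=
    funext fun n => act_add Φ u w w' n
  rw [this]
  exact lefV_add hL.2 (fun n => act_isLin Φ u w n) fun n => act_isLin Φ u w' n

theorem lef_smul {A L : C} (hL : FinE.{w₁} Λ A L) (u : A ⟶ Φ.obj A) (w : Φ.obj L ⟶ L) (c : Λ) :
    lef.{w₁} Λ Φ u (c • w) = c * lef.{w₁} Λ Φ u w := by
  rw [lef, lef]
  have : (fun n => act Φ u (c • w) n) = fun n => smulHom c (act.{w₁, w₁} Φ u w n) :=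
    funext fun n => act_smul Φ u w c n
  rw [this]
  exact lefV_smul hL.2 (fun n => act_isLin Φ u w n) c

theorem lef_sum {A L : C} (hL : FinE.{w₁} Λ A L) (u : A ⟶ Φ.obj A) {ι : Type*} (s : Finset ι)
    (w : ι → (Φ.obj L ⟶ L)) :
    lef.{w₁} Λ Φ u (∑ i ∈ s, w i) = ∑ i ∈ s, lef.{w₁} Λ Φ u (w i) := by
  rw [lef]
  have : (fun n => act Φ u (∑ i ∈ s, w i) n) = fun n => ∑ i ∈ s, act.{w₁, w₁} Φ u (w i) n :=
    funext fun n => act_sum Φ u s w n
  rw [this]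
  exact lefV_sum hL.2 s fun i _ n => act_isLin Φ u (w i) n

/-- Additivity in short exact sequences of pairs `(L, w)`. -/
theorem lef_ses {A : C} {S : ShortComplex C} (hS : S.ShortExact) (h₁ : FinE.{w₁} Λ A S.X₁)
    (h₂ : FinE.{w₁} Λ A S.X₂) (h₃ : FinE.{w₁} Λ A S.X₃) (u : A ⟶ Φ.obj A)
    (w₁' : Φ.obj S.X₁ ⟶ S.X₁) (w₂' : Φ.obj S.X₂ ⟶ S.X₂) (w₃' : Φ.obj S.X₃ ⟶ S.X₃)
    (h₁₂ : Φ.map S.f ≫ w₂' = w₁' ≫ S.f) (h₂₃ : Φ.map S.g ≫ w₃' = w₂' ≫ S.g) :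
    lef.{w₁} Λ Φ u w₂' = lef.{w₁} Λ Φ u w₁' + lef.{w₁} Λ Φ u w₃' := by
  rw [lef, lef, lef]
  refine lefV_les h₁ h₂ h₃ (f := fun n => (Ext.mk₀ S.f).postcomp A (add_zero n))
    (g := fun n => (Ext.mk₀ S.g).postcomp A (add_zero n))
    (δ := fun n => hS.extClass.postcomp A (rfl : n + 1 = n + 1))
    (fun n => isLin_postcomp S.f n) (fun n => isLin_postcomp S.g n)
    (fun n => isLin_postcomp_ext hS.extClass n rfl)
    (fun n => act_isLin Φ u w₁' n) (fun n => act_isLin Φ u w₂' n) (fun n => act_isLin Φ u w₃' n)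
    (fun n x => ?_) (fun n x => ?_) (fun n x => ?_) (injective_zero A hS) (exact₂ A hS) (exact₃ A hS)
    (exact₁ A hS)
  · change (act Φ u w₁' n x).comp (Ext.mk₀ S.f) (add_zero n) =
      act Φ u w₂' n (x.comp (Ext.mk₀ S.f) (add_zero n))
    rw [act_comp_mk₀, ← act_postcomp, h₁₂]
  · change (act Φ u w₂' n x).comp (Ext.mk₀ S.g) (add_zero n) =
      act Φ u w₃' n (x.comp (Ext.mk₀ S.g) (add_zero n))
    rw [act_comp_mk₀, ← act_postcomp, h₂₃]
  · change (act Φ u w₃' n x).comp hS.extClass rfl = act Φ u w₁' (n + 1) (x.comp hS.extClass rfl)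
    exact (act_extClass Φ u hS hS w₁' w₂' w₃' h₁₂ h₂₃ n x).symm

/-- Cyclicity inside one category: `lef (Φ a ≫ b) = lef (b ≫ a)` for `a : L ⟶ M`, `b : Φ M ⟶ L`. -/
theorem lef_cyc {A L M : C} (hL : FinE.{w₁} Λ A L) (hM : FinE.{w₁} Λ A M) (u : A ⟶ Φ.obj A)
    (a : L ⟶ M) (b : Φ.obj M ⟶ L) : lef.{w₁} Λ Φ u (Φ.map a ≫ b) = lef.{w₁} Λ Φ u (b ≫ a) := by
  have h := lefV_comm (Λ := Λ) (V := fun n => Ext.{w₁} A L n) (W := fun n => Ext.{w₁} A M n) hL.1 hM.1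
    (f := fun n => (Ext.mk₀ a).postcomp A (add_zero n)) (g := fun n => act Φ u b n)
    (fun n => isLin_postcomp a n) (fun n => act_isLin Φ u b n)
  rw [lef, lef]
  refine Eq.trans (lefV_congr fun n x => ?_) (h.trans (lefV_congr fun n x => ?_))
  · change act Φ u (Φ.map a ≫ b) n x = act Φ u b n (x.comp (Ext.mk₀ a) (add_zero n))
    rw [act_comp_mk₀]
  · change (act Φ u b n x).comp (Ext.mk₀ a) (add_zero n) = act Φ u (b ≫ a) n x
    rw [act_postcomp]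

/-- Isomorphic pairs have the same Lefschetz number. -/
theorem lef_iso {A L M : C} (hL : FinE.{w₁} Λ A L) (u : A ⟶ Φ.obj A) (e : L ≅ M) (w : Φ.obj L ⟶ L)
    (w' : Φ.obj M ⟶ M) (h : Φ.map e.hom ≫ w' = w ≫ e.hom) :
    lef.{w₁} Λ Φ u w = lef.{w₁} Λ Φ u w' := by
  have h1 : w = Φ.map e.hom ≫ (w' ≫ e.inv) := by
    rw [← Category.assoc, h, Category.assoc, e.hom_inv_id, Category.comp_id]
  have h2 : w' = (w' ≫ e.inv) ≫ e.hom := by
    rw [Category.assoc, e.inv_hom_id, Category.comp_id]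
  rw [h1, lef_cyc Φ hL (hL.of_iso e) u e.hom (w' ≫ e.inv), ← h2]

end Lef

section Nat

variable {Λ : Type t} [Field Λ] [Linear Λ C] [EnoughInjectives C]

/-- Naturality in the functor. -/
theorem lef_nat {Φ Φ' : C ⥤ C} [Φ.Additive] [PreservesFiniteLimits Φ] [PreservesFiniteColimits Φ]
    [Φ'.Additive] [PreservesFiniteLimits Φ'] [PreservesFiniteColimits Φ'] (θ : Φ ⟶ Φ')
    {A L : C} (u : A ⟶ Φ.obj A) (w : Φ'.obj L ⟶ L) :
    lef.{w₁} Λ Φ u (θ.app L ≫ w) = lef.{w₁} Λ Φ' (u ≫ θ.app A) w := by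
  rw [lef, lef]
  exact lefV_congr fun n x => act_nat θ u w n x

end Nat

section Comm

variable {Λ : Type t} [Field Λ] [Linear Λ C] [Linear Λ D] [EnoughInjectives C] [EnoughInjectives D]

/-- Cyclicity: for `Φ : C ⥤ D`, `Ψ : D ⥤ C`, `w : Φ L ⟶ N`, `z : Ψ N ⟶ L`. -/
theorem lef_comm (Φ : C ⥤ D) (Ψ : D ⥤ C) [Φ.Additive] [PreservesFiniteLimits Φ]
    [PreservesFiniteColimits Φ] [Φ.Linear Λ] [Ψ.Additive] [PreservesFiniteLimits Ψ]
    [PreservesFiniteColimits Ψ] [Ψ.Linear Λ]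
    [(Φ ⋙ Ψ).Additive] [PreservesFiniteLimits (Φ ⋙ Ψ)] [PreservesFiniteColimits (Φ ⋙ Ψ)]
    [(Ψ ⋙ Φ).Additive] [PreservesFiniteLimits (Ψ ⋙ Φ)] [PreservesFiniteColimits (Ψ ⋙ Φ)]
    {A : C} {B : D} {L : C} {N : D} (hL : FinE.{w₁} Λ A L) (hN : FinE.{w₂} Λ B N)
    (u : B ⟶ Φ.obj A) (v : A ⟶ Ψ.obj B) (w : Φ.obj L ⟶ N) (z : Ψ.obj N ⟶ L) :
    lef.{w₁} Λ (Φ ⋙ Ψ) (A := A) (L := L) (v ≫ Ψ.map u) (Ψ.map w ≫ z) =
      lef.{w₂} Λ (Ψ ⋙ Φ) (A := B) (L := N) (u ≫ Φ.map v) (Φ.map z ≫ w) := by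
  have h := lefV_comm (Λ := Λ) (V := fun n => Ext.{w₁} A L n) (W := fun n => Ext.{w₂} B N n) hL.1 hN.1
    (f := fun n => act Φ u w n) (g := fun n => act Ψ v z n)
    (fun n => act_isLin Φ u w n) (fun n => act_isLin Ψ v z n)
  rw [lef, lef]
  refine Eq.trans (lefV_congr fun n x => ?_) (h.trans (lefV_congr fun n x => ?_))
  · exact (act_comp Φ Ψ u v w z n x).symm
  · exact act_comp Ψ Φ v u z w n x

/-- Rotation: `lef (Φ ⋙ Ψ) (L, w) = lef (Ψ ⋙ Φ) (Φ L, Φ w)`. -/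
theorem lef_rotate (Φ : C ⥤ D) (Ψ : D ⥤ C) [Φ.Additive] [PreservesFiniteLimits Φ]
    [PreservesFiniteColimits Φ] [Φ.Linear Λ] [Ψ.Additive] [PreservesFiniteLimits Ψ]
    [PreservesFiniteColimits Ψ] [Ψ.Linear Λ]
    [(Φ ⋙ Ψ).Additive] [PreservesFiniteLimits (Φ ⋙ Ψ)] [PreservesFiniteColimits (Φ ⋙ Ψ)]
    [(Ψ ⋙ Φ).Additive] [PreservesFiniteLimits (Ψ ⋙ Φ)] [PreservesFiniteColimits (Ψ ⋙ Φ)]
    {A : C} {B : D} {L : C} (hL : FinE.{w₁} Λ A L) (hN : FinE.{w₂} Λ B (Φ.obj L))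
    (u : B ⟶ Φ.obj A) (v : A ⟶ Ψ.obj B) (w : (Φ ⋙ Ψ).obj L ⟶ L) :
    lef.{w₁} Λ (Φ ⋙ Ψ) (A := A) (L := L) (v ≫ Ψ.map u) w =
      lef.{w₂} Λ (Ψ ⋙ Φ) (A := B) (L := Φ.obj L) (u ≫ Φ.map v) (Φ.map w) := by
  have h := lef_comm (Λ := Λ) Φ Ψ hL hN u v (𝟙 (Φ.obj L)) w
  rw [Ψ.map_id, Category.comp_id] at h
  refine Eq.trans ?_ h
  congr 1
  exact (Category.id_comp w).symm

end Comm

end Groth.Agent.Fixpt.H657.Lef
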